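import Cfsg.Agent.Lib.MaxClassGood.Exponent

/-! Positive degree of commutativity below the last layer, for `p`-groups of maximal class. -/

set_option autoImplicit false

namespace CfsgLib.MaxClassDegree

open scoped commutatorElement
open Subgroup
open CfsgLib.PolySeq (fil fil_antitone fil_commutator_mem)
open CfsgLib.MaxClassGood (twoStep mem_twoStep)

universe u

variable {S : Type u} [Group S] {p : ℕ} {n : ℕ}

/-- Coordinates on all the layers, with commutation by a single element. -/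
structure Coords (S : Type u) [Group S] (p n : ℕ) where
  θ : ℕ → S → ZMod p
  β : ℕ → S → ZMod p
  add : ∀ k, 2 ≤ k → ∀ a ∈ fil S k, ∀ b ∈ fil S k, θ k (a * b) = θ k a + θ k b
  ker : ∀ k, 2 ≤ k → ∀ a ∈ fil S k, (θ k a = 0 ↔ a ∈ fil S (k + 1))
  comm : ∀ k, 2 ≤ k → ∀ a ∈ fil S k, ∀ g, θ (k + 1) ⁅a, g⁆ = β k g * θ k a

theorem exists_coords [Finite S] [Fact p.Prime] (hn : 3 ≤ n) (hG : Nat.card S = p ^ n) (hc : Group.nilpotencyClass S = n - 1) :
    Nonempty (Coords S p n) := by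
  have h : ∀ k, ∃ θ : S → ZMod p, 2 ≤ k →
      (∀ a ∈ fil S k, ∀ b ∈ fil S k, θ (a * b) = θ a + θ b) ∧
      ∀ a ∈ fil S k, (θ a = 0 ↔ a ∈ fil S (k + 1)) := fun k => by
    by_cases hk : 2 ≤ k
    · obtain ⟨θ, h⟩ := CfsgLib.MaxClassGood.exists_coord hn hG hc hk
      exact ⟨θ, fun _ => h⟩
    · exact ⟨0, fun h => absurd h hk⟩
  choose θ hθ using h
  obtain ⟨β, hβ, -⟩ := CfsgLib.MaxClassGood.exists_beta hn hG hc (fun k hk => (hθ k hk).1) fun k hk => (hθ k hk).2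
  exact ⟨⟨θ, β, fun k hk => (hθ k hk).1, fun k hk => (hθ k hk).2, hβ⟩⟩

namespace Coords

variable (C : Coords S p n)

theorem zero {m : ℕ} (hm : 2 ≤ m) {a : S} (ha : a ∈ fil S (m + 1)) : C.θ m a = 0 :=
  (C.ker m hm a (fil_antitone (by omega) ha)).mpr ha

theorem map_inv {m : ℕ} (hm : 2 ≤ m) {a : S} (ha : a ∈ fil S m) : C.θ m a⁻¹ = -C.θ m a := by
  have h := C.add m hm a ha _ (inv_mem ha)
  rw [mul_inv_cancel, C.zero hm (one_mem _)] at h
  linear_combination -h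

theorem conj {m : ℕ} (hm : 2 ≤ m) {a : S} (ha : a ∈ fil S m) (g : S) : C.θ m (g * a * g⁻¹) = C.θ m a := by
  have h : ⁅g, a⁆ ∈ fil S (m + 1) :=
    fil_antitone (by omega) (fil_commutator_mem (i := 1) (j := m) (mem_top g) ha)
  rw [show g * a * g⁻¹ = ⁅g, a⁆ * a by rw [commutatorElement_def]; group,
    C.add m hm _ (fil_antitone (by omega) h) a ha, C.zero hm h, zero_add]

theorem mul_left {i j : ℕ} (hi : 1 ≤ i) (hj : 1 ≤ j) {a a' b : S} (ha : a ∈ fil S i) (ha' : a' ∈ fil S i)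
    (hb : b ∈ fil S j) : C.θ (i + j) ⁅a * a', b⁆ = C.θ (i + j) ⁅a, b⁆ + C.θ (i + j) ⁅a', b⁆ := by
  have e : ⁅a * a', b⁆ = ⁅a, ⁅a', b⁆⁆ * ⁅a', b⁆ * ⁅a, b⁆ := by simp only [commutatorElement_def]; group
  have h1 : ⁅a, ⁅a', b⁆⁆ ∈ fil S (i + j + 1) :=
    fil_antitone (by omega) (fil_commutator_mem ha (fil_commutator_mem ha' hb))
  have h2 := fil_commutator_mem ha' hb
  have h1' := fil_antitone (show i + j ≤ i + j + 1 by omega) h1
  rw [e, C.add _ (by omega) _ (mul_mem h1' h2) _ (fil_commutator_mem ha hb),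
    C.add _ (by omega) _ h1' _ h2, C.zero (by omega) h1, zero_add, add_comm]

theorem swap {i j : ℕ} (hi : 1 ≤ i) (hj : 1 ≤ j) {a b : S} (ha : a ∈ fil S i) (hb : b ∈ fil S j) :
    C.θ (i + j) ⁅b, a⁆ = -C.θ (i + j) ⁅a, b⁆ := by
  rw [← commutatorElement_inv, C.map_inv (by omega) (fil_commutator_mem ha hb)]

theorem mul_right {i j : ℕ} (hi : 1 ≤ i) (hj : 1 ≤ j) {a b b' : S} (ha : a ∈ fil S i) (hb : b ∈ fil S j)
    (hb' : b' ∈ fil S j) : C.θ (i + j) ⁅a, b * b'⁆ = C.θ (i + j) ⁅a, b⁆ + C.θ (i + j) ⁅a, b'⁆ := by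
  have h1 := C.swap hj hi hb ha
  have h2 := C.swap hj hi hb' ha
  have h3 := C.swap hj hi (mul_mem hb hb') ha
  have h := C.mul_left hj hi hb hb' ha
  rw [Nat.add_comm j i] at h1 h2 h3 h
  linear_combination h3 - h1 - h2 - h

theorem deep_left {i j : ℕ} (hi : 1 ≤ i) (hj : 1 ≤ j) {a b : S} (ha : a ∈ fil S (i + 1)) (hb : b ∈ fil S j) :
    C.θ (i + j) ⁅a, b⁆ = 0 :=
  C.zero (by omega) (fil_antitone (by omega) (fil_commutator_mem ha hb))

theorem inv_left {i j : ℕ} (hi : 1 ≤ i) (hj : 1 ≤ j) {a b : S} (ha : a ∈ fil S i) (hb : b ∈ fil S j) :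
    C.θ (i + j) ⁅a⁻¹, b⁆ = -C.θ (i + j) ⁅a, b⁆ := by
  have h := C.mul_left hi hj ha (inv_mem ha) hb
  rw [mul_inv_cancel, commutatorElement_one_left, C.zero (by omega) (one_mem _)] at h
  linear_combination -h

theorem inv_right {i j : ℕ} (hi : 1 ≤ i) (hj : 1 ≤ j) {a b : S} (ha : a ∈ fil S i) (hb : b ∈ fil S j) :
    C.θ (i + j) ⁅a, b⁻¹⁆ = -C.θ (i + j) ⁅a, b⁆ := by
  have h := C.mul_right hi hj ha hb (inv_mem hb)
  rw [mul_inv_cancel, commutatorElement_one_right, C.zero (by omega) (one_mem _)] at h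
  linear_combination -h

/-- Commutation with an element is a derivation on the layers. -/
theorem derivation {i j : ℕ} (hi : 1 ≤ i) (hj : 1 ≤ j) {x y : S} (hx : x ∈ fil S i) (hy : y ∈ fil S j) (g : S) :
    C.θ (i + j + 1) ⁅⁅x, y⁆, g⁆ =
      C.θ (i + j + 1) ⁅⁅x, g⁆, y⁆ + C.θ (i + j + 1) ⁅x, ⁅y, g⁆⁆ := by
  have key : ∀ (k : ℕ) (z : S), 1 ≤ k → z ∈ fil S k → ∃ w, g * z * g⁻¹ = z * w ∧ w ∈ fil S (k + 1) ∧
      w * ⁅z, g⁆ ∈ fil S (k + 2) := by
    intro k z hk hz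
    refine ⟨z⁻¹ * ⁅z, g⁆⁻¹ * z, by rw [commutatorElement_def]; group, ?_, ?_⟩
    · have h := (CfsgLib.PolySeq.fil_normal (k + 1)).conj_mem _
        (inv_mem (fil_commutator_mem (j := 1) hz (mem_top g))) z⁻¹
      rwa [inv_inv] at h
    · rw [show z⁻¹ * ⁅z, g⁆⁻¹ * z * ⁅z, g⁆ = ⁅z⁻¹, ⁅z, g⁆⁻¹⁆ by rw [commutatorElement_def z⁻¹]; group]
      exact fil_antitone (by omega) (fil_commutator_mem (inv_mem hz)
        (inv_mem (fil_commutator_mem (j := 1) hz (mem_top g))))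
  obtain ⟨u, hu, hum, hu2⟩ := key i x hi hx
  obtain ⟨v, hv, hvm, hv2⟩ := key j y hj hy
  have hm : 2 ≤ i + j + 1 := by omega
  have hxyv : y * v ∈ fil S j := mul_mem hy (fil_antitone (by omega) hvm)
  set c := ⁅x, y⁆ with hc
  have hcm : c ∈ fil S (i + j) := fil_commutator_mem hx hy
  have e1 : g * c * g⁻¹ = ⁅x * u, y * v⁆ := by
    rw [← hu, ← hv, hc]; simp only [commutatorElement_def]; group
  have hA : ⁅x, ⁅u, y * v⁆⁆ ∈ fil S (i + j + 2) :=
    fil_antitone (by omega) (fil_commutator_mem hx (fil_commutator_mem hum hxyv))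
  have hB : ⁅u, y * v⁆ ∈ fil S (i + j + 1) := fil_antitone (by omega) (fil_commutator_mem hum hxyv)
  have hD : ⁅y, ⁅x, v⁆⁆ ∈ fil S (i + j + 2) :=
    fil_antitone (by omega) (fil_commutator_mem hy (fil_commutator_mem hx hvm))
  have hE : ⁅x, v⁆ ∈ fil S (i + j + 1) := fil_antitone (by omega) (fil_commutator_mem hx hvm)
  have e2 : ⁅c, g⁆ = c * (⁅y, ⁅x, v⁆⁆ * ⁅x, v⁆)⁻¹ * c⁻¹ * (⁅x, ⁅u, y * v⁆⁆ * ⁅u, y * v⁆)⁻¹ := by
    rw [show ⁅c, g⁆ = c * (g * c * g⁻¹)⁻¹ by rw [commutatorElement_def]; group, e1, hc]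
    simp only [commutatorElement_def]
    group
  have hA' := fil_antitone (show i + j + 1 ≤ i + j + 2 by omega) hA
  have hD' := fil_antitone (show i + j + 1 ≤ i + j + 2 by omega) hD
  have hDE := inv_mem (mul_mem hD' hE)
  rw [e2, C.add _ hm _ ((CfsgLib.PolySeq.fil_normal _).conj_mem _ hDE c) _ (inv_mem (mul_mem hA' hB)),
    C.conj hm hDE, C.map_inv hm (mul_mem hD' hE), C.map_inv hm (mul_mem hA' hB), C.add _ hm _ hD' _ hE,
    C.add _ hm _ hA' _ hB, C.zero hm hD, C.zero hm hA, zero_add, zero_add]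
  -- the two surviving terms
  have hxg := fil_commutator_mem (j := 1) hx (mem_top g)
  have hyg := fil_commutator_mem (j := 1) hy (mem_top g)
  have t1 : C.θ (i + j + 1) ⁅u, y * v⁆ = -C.θ (i + j + 1) ⁅⁅x, g⁆, y⁆ := by
    rw [show i + j + 1 = i + 1 + j by omega, C.mul_right (by omega) hj hum hy (fil_antitone (by omega) hvm),
      C.zero (m := i + 1 + j) (a := ⁅u, v⁆) (by omega)
        (fil_antitone (by omega) (fil_commutator_mem hum hvm)), add_zero]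
    have h := C.mul_left (i := i + 1) (by omega) hj hum hxg hy
    rw [C.deep_left (by omega) hj hu2 hy] at h
    linear_combination -h
  have t2 : C.θ (i + j + 1) ⁅x, v⁆ = -C.θ (i + j + 1) ⁅x, ⁅y, g⁆⁆ := by
    rw [Nat.add_assoc]
    have h := C.mul_right hi (show 1 ≤ j + 1 by omega) hx hvm hyg
    rw [C.zero (m := i + (j + 1)) (a := ⁅x, v * ⁅y, g⁆⁆) (by omega)
      (fil_antitone (by omega) (fil_commutator_mem hx hv2))] at h
    linear_combination -h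
  rw [t1, t2, neg_neg, neg_neg, add_comm]

variable (hn : 3 ≤ n) (hG : Nat.card S = p ^ n) (hc : Group.nilpotencyClass S = n - 1)

include hn hG hc in
theorem beta_mul [Finite S] [Fact p.Prime] {k : ℕ} (hk : 2 ≤ k) (hkn : k < n) (g h : S) :
    C.β k (g * h) = C.β k g + C.β k h := by
  obtain ⟨z, hz, hz'⟩ := CfsgLib.MaxClassGood.exists_gen hn hG hc hkn hk
  have hθ : C.θ k z ≠ 0 := fun e => hz' ((C.ker k hk z hz).mp e)
  refine mul_right_cancel₀ hθ ?_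
  rw [add_mul, ← C.comm k hk z hz, ← C.comm k hk z hz, ← C.comm k hk z hz,
    C.mul_right (by omega) le_rfl hz (mem_top g) (mem_top h)]

include hn hG hc in
theorem beta_eq_zero_iff [Finite S] [Fact p.Prime] {k : ℕ} (hk : 2 ≤ k) (hkn : k < n) (g : S) :
    C.β k g = 0 ↔ g ∈ twoStep S k := by
  have hc1 : ∀ w ∈ fil S k, ⁅w, g⁆ ∈ fil S (k + 1) := fun w hw => fil_commutator_mem hw (mem_top g)
  rw [mem_twoStep]
  constructor
  · intro h w hw
    refine (C.ker (k + 1) (by omega) _ (hc1 w hw)).mp ?_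
    rw [C.comm k hk w hw, h, zero_mul]
  · intro h
    obtain ⟨z, hz, hz'⟩ := CfsgLib.MaxClassGood.exists_gen hn hG hc hkn hk
    have hθ : C.θ k z ≠ 0 := fun e => hz' ((C.ker k hk z hz).mp e)
    have h1 := C.comm k hk z hz g
    rw [C.zero (by omega) (h z hz)] at h1
    exact (mul_eq_zero.mp h1.symm).resolve_right hθ

end Coords

end CfsgLib.MaxClassDegree
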