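import Cfsg.Agent.Lib.MaxClassDegree.Basic

/-! In a group of maximal class all two-step centralizers but the last coincide, and the last differs
only in even order exponent. -/

set_option autoImplicit false

namespace CfsgLib.MaxClassDegree

open scoped commutatorElement
open Subgroup
open CfsgLib.PolySeq (fil fil_antitone fil_commutator_mem fil_normal)
open CfsgLib.MaxClassGood (twoStep mem_twoStep)

universe u

variable {S : Type u} [Group S] [Finite S] {p : ℕ} [hp : Fact p.Prime] {n : ℕ}
  (hn : 3 ≤ n) (hG : Nat.card S = p ^ n) (hc : Group.nilpotencyClass S = n - 1)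

include hn hG hc

theorem fil_two_index : (fil S 2).index = p ^ 2 :=
  CfsgLib.MaximalClass.index_lcs hn hG hc 1 (by omega) (by omega)

theorem eq_top_of_mems {H : Subgroup S} {K : Subgroup S} (hK : fil S 2 ≤ K) (hKi : K.index = p) {a b : S}
    (ha : a ∉ K) (hb : b ∈ K) (hb' : b ∉ fil S 2) (haH : a ∈ H) (hbH : b ∈ H) : H = ⊤ := by
  have hpp : p.Prime := hp.out
  have hL : H ⊔ fil S 2 = ⊤ := by
    have h2 := fil_two_index hn hG hc
    have step : ∀ (A B : Subgroup S), A < B → A.index = p ^ 2 → B.index ∣ p := by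
      intro A B hAB hA
      have hd : B.index ∣ p ^ 2 := hA ▸ index_dvd_of_le hAB.le
      obtain ⟨j, hj, e⟩ := (Nat.dvd_prime_pow hpp).mp hd
      have hlt := index_strictAnti hAB
      rw [e, hA, Nat.pow_lt_pow_iff_right hpp.one_lt] at hlt
      rw [e]
      exact pow_dvd_pow p (show j ≤ 1 by omega) |>.trans (by rw [pow_one])
    have h1 : K ≤ H ⊔ fil S 2 := by
      have hlt : fil S 2 < fil S 2 ⊔ zpowers b := lt_of_le_of_ne le_sup_left fun e =>
        hb' (e.ge (mem_sup_right (mem_zpowers b)))
      have hle : fil S 2 ⊔ zpowers b ≤ K := sup_le hK (zpowers_le.mpr hb)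
      have hd := step _ _ hlt h2
      have e : fil S 2 ⊔ zpowers b = K := by
        by_contra hne
        have h3 := index_strictAnti (lt_of_le_of_ne hle hne)
        rw [hKi] at h3
        exact absurd (Nat.le_of_dvd hpp.pos hd) (by omega)
      exact e ▸ sup_le le_sup_right (zpowers_le.mpr (mem_sup_left hbH))
    have hlt : K < H ⊔ fil S 2 := lt_of_le_of_ne h1 fun e => ha (e.ge (mem_sup_left haH))
    have h3 := index_strictAnti hlt
    rw [hKi] at h3
    have hd : (H ⊔ fil S 2).index ∣ p := hKi ▸ index_dvd_of_le hlt.le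
    rcases (Nat.dvd_prime hpp).mp hd with e | e
    · exact index_eq_one.mp e
    · omega
  have hfr : fil S 2 ≤ frattini S := by
    rw [show fil S 2 = commutator S from Subgroup.top_lowerCentralSeries_one]
    exact CfsgLib.commutator_le_frattini_pGroup (IsPGroup.of_card hG)
  exact frattini_nongenerating (eq_top_iff.mpr (hL.ge.trans (sup_le_sup_left hfr H)))

/-- The first change among the two-step centralizers happens at an even place, and only at the last. -/
theorem first_change {k : ℕ} (h3 : 3 ≤ k) (hkn : k + 2 ≤ n) (hne : twoStep S k ≠ twoStep S 2)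
    (hlt : ∀ i, 2 ≤ i → i < k → twoStep S i = twoStep S 2) : Even k ∧ ¬ k + 3 ≤ n := by
  have hpp : p.Prime := hp.out
  obtain ⟨C⟩ := exists_coords hn hG hc
  have hkp : k ≤ p := by
    by_contra h
    push Not at h
    refine hne ?_
    rw [(CfsgLib.MaxClassGood.periodic_and_good n hn hG hc).1 k h hkn]
    rcases lt_or_eq_of_le (show 2 ≤ k - (p - 1) by omega) with h2 | h2
    · exact hlt _ (by omega) (by have := hpp.two_le; omega)
    · rw [← h2]
  have hK2 := CfsgLib.MaxClassGood.twoStep_index hn hG hc (k := 2) le_rfl (by omega)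
  have hKk := CfsgLib.MaxClassGood.twoStep_index hn hG hc (k := k) (by omega) hkn
  obtain ⟨b, hb2, hbk⟩ : ∃ b ∈ twoStep S 2, b ∉ twoStep S k := by
    by_contra h
    push Not at h
    refine hne (eq_of_le_of_card_ge h ?_).symm
    refine le_of_eq (Nat.eq_of_mul_eq_mul_right hpp.pos ?_)
    have h1 := (twoStep S 2).card_mul_index
    have h2 := (twoStep S k).card_mul_index
    rw [hK2] at h1
    rw [hKk] at h2
    omega
  obtain ⟨a, ha2⟩ : ∃ a, a ∉ twoStep S 2 := by
    by_contra h
    push Not at h
    exact CfsgLib.MaxClassGood.twoStep_ne_top hn hG hc le_rfl (by omega) ((eq_top_iff' _).mpr h)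
  have hbf : b ∉ fil S 2 := fun h => hbk (CfsgLib.MaxClassGood.fil_le_twoStep k h)
  have hgen : ∀ H : Subgroup S, a ∈ H → b ∈ H → H = ⊤ := fun H h1 h2 =>
    eq_top_of_mems hn hG hc (CfsgLib.MaxClassGood.fil_le_twoStep 2) hK2 ha2 hb2 hbf h1 h2
  let s : ℕ → S := fun i => Nat.rec b (fun _ c => ⁅c, a⁆) (i - 1)
  have s1 : s 1 = b := rfl
  have ssucc : ∀ i, 1 ≤ i → s (i + 1) = ⁅s i, a⁆ := by
    intro i hi
    obtain ⟨j, rfl⟩ : ∃ j, i = j + 1 := ⟨i - 1, by omega⟩
    rfl
  have smem : ∀ i, 1 ≤ i → s i ∈ fil S i := by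
    intro i hi
    induction i, hi using Nat.le_induction with
    | base => exact mem_top _
    | succ i hi ih =>
      rw [ssucc i hi]
      exact fil_commutator_mem ih (mem_top a)
  have hs2 : C.θ 2 (s 2) ≠ 0 := by
    intro h
    have h1 : s 2 ∈ fil S 3 := (C.ker 2 le_rfl _ (smem 2 (by omega))).mp h
    rw [ssucc 1 le_rfl, s1] at h1
    obtain ⟨z, hz, hz'⟩ := CfsgLib.MaxClassGood.exists_gen hn hG hc (j := 2) (by omega) le_rfl
    let N := fil S 3
    let q := QuotientGroup.mk' N
    have hcomm : q a * q b = q b * q a := (CfsgLib.MaxClassRank.mk_comm_iff.mpr h1).symm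
    have hc1 : closure ({a, b} : Set S) = ⊤ := hgen _ (subset_closure (Or.inl rfl)) (subset_closure (Or.inr rfl))
    have hcen : ∀ g : S, ∀ h : S, q g * q h = q h * q g := by
      have h2 : ∀ x ∈ ({a, b} : Set S), ∀ y ∈ ({a, b} : Set S), q x * q y = q y * q x := by
        rintro x (rfl | rfl) y (rfl | rfl) <;> first | rfl | exact hcomm | exact hcomm.symm
      intro g h
      have hg : q g ∈ closure (q '' ({a, b} : Set S)) := by
        rw [← MonoidHom.map_closure, hc1]
        exact ⟨g, mem_top g, rfl⟩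
      have hh : q h ∈ closure (q '' ({a, b} : Set S)) := by
        rw [← MonoidHom.map_closure, hc1]
        exact ⟨h, mem_top h, rfl⟩
      haveI := Subgroup.isMulCommutative_closure (k := q '' ({a, b} : Set S)) (by
        rintro _ ⟨x, hx, rfl⟩ _ ⟨y, hy, rfl⟩
        exact h2 x hx y hy)
      exact congrArg Subtype.val
        (IsMulCommutative.is_comm.comm (⟨_, hg⟩ : closure (q '' ({a, b} : Set S))) ⟨_, hh⟩)
    have : fil S 2 ≤ fil S 3 := by
      rw [CfsgLib.MaxClassRank.fil_succ (show 1 ≤ 1 from le_rfl), commutator_le]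
      exact fun g _ h _ => CfsgLib.MaxClassRank.mk_comm_iff.mp (hcen g h)
    exact hz' (this hz)
  have hθ : ∀ i, 2 ≤ i → i ≤ k → C.θ i (s i) ≠ 0 := by
    intro i hi
    induction i, hi using Nat.le_induction with
    | base => exact fun _ => hs2
    | succ i hi ih =>
      intro hik
      rw [ssucc i (by omega), C.comm i hi _ (smem i (by omega))]
      refine mul_ne_zero (fun h => ha2 ?_) (ih (by omega))
      rw [← hlt i hi (by omega)]
      exact (C.beta_eq_zero_iff hn hG hc hi (by omega) a).mp h
  -- the pairing on the first layers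
  let P : ℕ → ℕ → ZMod p := fun i j => C.θ (i + j) ⁅s i, s j⁆
  have hanti : ∀ i j, 1 ≤ i → 1 ≤ j → P j i = -P i j := fun i j hi hj => by
    show C.θ (j + i) _ = -C.θ (i + j) _
    rw [Nat.add_comm j i]
    exact C.swap hi hj (smem i hi) (smem j hj)
  have hrec : ∀ i j, 1 ≤ i → 1 ≤ j → P (i + 1) j + P i (j + 1) = C.β (i + j) a * P i j := by
    intro i j hi hj
    show C.θ (i + 1 + j) _ + C.θ (i + (j + 1)) _ = _
    rw [ssucc i hi, ssucc j hj, show i + 1 + j = i + j + 1 by omega, ← Nat.add_assoc,
      ← C.derivation hi hj (smem i hi) (smem j hj), C.comm (i + j) (by omega) _ (fil_commutator_mem (smem i hi) (smem j hj))]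
  have hP1 : ∀ j, 2 ≤ j → P 1 j = -(C.β j b * C.θ j (s j)) := by
    intro j hj
    rw [hanti j 1 (by omega) le_rfl]
    show -C.θ (j + 1) ⁅s j, b⁆ = _
    rw [C.comm j hj _ (smem j (by omega))]
  have hlow : ∀ m, m ≤ k → ∀ i j, 1 ≤ i → 1 ≤ j → i + j = m → P i j = 0 := by
    intro m
    induction m using Nat.strong_induction_on with
    | _ m ihm =>
      intro hmk i
      induction i with
      | zero => omega
      | succ i ih =>
        intro j _ hj hij
        rcases Nat.eq_zero_or_pos i with rfl | hi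
        · rcases (show j = 1 ∨ 2 ≤ j by omega) with rfl | hj2
          · show C.θ (1 + 1) ⁅s 1, s 1⁆ = 0
            rw [commutatorElement_self]
            exact C.zero (by omega) (one_mem _)
          · rw [show 0 + 1 = 1 from rfl, hP1 j hj2, (C.beta_eq_zero_iff hn hG hc hj2 (by omega) b).mpr
              (by rw [hlt j hj2 (by omega)]; exact hb2), zero_mul, neg_zero]
        · have h := hrec i j hi hj
          rw [ihm (i + j) (by omega) (by omega) i j hi hj rfl, ih (j + 1) hi (by omega) (by omega), mul_zero,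
            add_zero] at h
          exact h
  set π := P 1 k with hπ
  have hπ0 : π ≠ 0 := by
    rw [hπ, hP1 k (by omega), neg_ne_zero]
    exact mul_ne_zero (fun h => hbk ((C.beta_eq_zero_iff hn hG hc (by omega) (by omega) b).mp h)) (hθ k (by omega) le_rfl)
  have htop : ∀ i, i + 1 ≤ k → P (i + 1) (k - i) = (-1) ^ i * π := by
    intro i
    induction i with
    | zero => intro _; rw [pow_zero, one_mul]; rfl
    | succ i ih =>
      intro hi
      have h := hrec (i + 1) (k - (i + 1)) (by omega) (by omega)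
      rw [hlow k le_rfl (i + 1) (k - (i + 1)) (by omega) (by omega) (by omega), mul_zero,
        show k - (i + 1) + 1 = k - i by omega, ih (by omega)] at h
      rw [pow_succ]
      linear_combination h
  have h2ne : (2 : ZMod p) ≠ 0 ∨ p = 2 := by
    rcases eq_or_ne p 2 with e | e
    · exact Or.inr e
    · left
      rw [Ne, show (2 : ZMod p) = ((2 : ℕ) : ZMod p) by norm_num, ZMod.natCast_eq_zero_iff]
      exact fun h => e ((Nat.prime_dvd_prime_iff_eq hpp Nat.prime_two).mp h)
  have hp2 : (2 : ZMod p) ≠ 0 := h2ne.resolve_right (by omega)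
  have hkeven : Even k := by
    by_contra hodd
    have h := htop (k - 1) (by omega)
    rw [show k - 1 + 1 = k by omega, show k - (k - 1) = 1 by omega, hanti 1 k le_rfl (by omega),
      (Nat.Odd.sub_odd (Nat.not_even_iff_odd.mp hodd) odd_one).neg_one_pow, one_mul] at h
    exact hπ0 (mul_left_cancel₀ hp2 (by linear_combination -h))
  refine ⟨hkeven, fun hk3 => ?_⟩
  have h4 : 4 ≤ k := by obtain ⟨j, rfl⟩ := hkeven; omega
  -- commutation with `b` kills the next layer
  have hdeep : ∀ i, 2 ≤ i → i < k → ⁅s i, b⁆ ∈ fil S (i + 2) := fun i hi hik =>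
    mem_twoStep.mp (by rw [hlt i hi hik]; exact hb2) _ (smem i (by omega))
  have hbk1 : C.β (k + 1) b = 0 := by
    have h := C.derivation (i := 2) (j := k - 1) (by omega) (by omega) (smem 2 (by omega)) (smem (k - 1) (by omega)) b
    have e1 : ⁅⁅s 2, b⁆, s (k - 1)⁆ ∈ fil S (2 + (k - 1) + 1 + 1) :=
      fil_antitone (by omega) (fil_commutator_mem (hdeep 2 le_rfl (by omega)) (smem (k - 1) (by omega)))
    have e2 : ⁅s 2, ⁅s (k - 1), b⁆⁆ ∈ fil S (2 + (k - 1) + 1 + 1) :=
      fil_antitone (by omega) (fil_commutator_mem (smem 2 (by omega)) (hdeep (k - 1) (by omega) (by omega)))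
    rw [C.zero (by omega) e1, C.zero (by omega) e2, add_zero,
      C.comm (2 + (k - 1)) (by omega) _ (fil_commutator_mem (smem 2 (by omega)) (smem (k - 1) (by omega)))] at h
    have e3 := htop 1 (by omega)
    rw [show C.θ (2 + (k - 1)) ⁅s 2, s (k - 1)⁆ = P (1 + 1) (k - 1) from rfl, e3,
      show 2 + (k - 1) = k + 1 by omega] at h
    exact (mul_eq_zero.mp h).resolve_right (mul_ne_zero (by norm_num) hπ0)
  set q := C.β (k + 1) a * π with hq
  have hnext : ∀ i, i + 1 ≤ k + 1 → P (i + 1) (k + 1 - i) = (-1) ^ (i + 1) * (i : ZMod p) * q := by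
    intro i
    induction i with
    | zero =>
      intro _
      rw [Nat.cast_zero, mul_zero, zero_mul, show 0 + 1 = 1 from rfl, show k + 1 - 0 = k + 1 from rfl, hP1 (k + 1) (by omega), hbk1,
        zero_mul, neg_zero]
    | succ i ih =>
      intro hi
      have h := hrec (i + 1) (k - i) (by omega) (by omega)
      rw [show i + 1 + (k - i) = k + 1 by omega, htop i (by omega), show k - i + 1 = k + 1 - i by omega, ih (by omega)] at h
      rw [show k + 1 - (i + 1) = k - i by omega, Nat.cast_succ, hq, pow_succ, pow_succ]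
      rw [hq, pow_succ] at h
      linear_combination h
  obtain ⟨r, hr⟩ := hkeven
  have hmid := hnext r (by omega)
  rw [show k + 1 - r = r + 1 by omega, show P (r + 1) (r + 1) = 0 by
    show C.θ _ ⁅s (r + 1), s (r + 1)⁆ = 0
    rw [commutatorElement_self]
    exact C.zero (by omega) (one_mem _)] at hmid
  have hr0 : (r : ZMod p) ≠ 0 := by
    rw [Ne, ZMod.natCast_eq_zero_iff]
    exact fun h => absurd (Nat.le_of_dvd (by omega) h) (by omega)
  have hq0 : q = 0 := (mul_eq_zero.mp hmid.symm).resolve_left (mul_ne_zero (pow_ne_zero _ (by norm_num)) hr0)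
  have hak1 : C.β (k + 1) a = 0 := (mul_eq_zero.mp hq0).resolve_right hπ0
  refine CfsgLib.MaxClassGood.twoStep_ne_top hn hG hc (k := k + 1) (by omega) (by omega) (hgen _ ?_ ?_)
  · exact (C.beta_eq_zero_iff hn hG hc (by omega) (by omega) a).mp hak1
  · exact (C.beta_eq_zero_iff hn hG hc (by omega) (by omega) b).mp hbk1

/-- All two-step centralizers below the last coincide. -/
theorem twoStep_eq {k : ℕ} (h2 : 2 ≤ k) (hk : k + 3 ≤ n) : twoStep S k = twoStep S 2 := by
  induction k using Nat.strong_induction_on with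
  | _ k ih =>
    rcases eq_or_lt_of_le h2 with rfl | h3
    · rfl
    by_contra hne
    exact (first_change hn hG hc h3 (by omega) hne fun i hi hik => ih i hik hi (by omega)).2 hk

/-- If the last two-step centralizer differs then the exponent of the order is even. -/
theorem even_of_last_ne (h5 : 5 ≤ n) (hne : twoStep S (n - 2) ≠ twoStep S 2) : Even n := by
  have h := (first_change hn hG hc (k := n - 2) (by omega) (by omega) hne
    fun i hi hik => twoStep_eq hn hG hc hi (by omega)).1
  obtain ⟨r, hr⟩ := h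
  exact ⟨r + 1, by omega⟩

end CfsgLib.MaxClassDegree
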