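import Cfsg.Agent.Lib.MaxClassDegree.Main

/-! Eigenvalues of an automorphism of a group of maximal class on the layers. -/

set_option autoImplicit false

namespace CfsgLib.MaxClassDegree

open scoped commutatorElement
open Subgroup
open CfsgLib.PolySeq (fil fil_antitone fil_commutator_mem fil_normal)
open CfsgLib.MaxClassGood (twoStep mem_twoStep)

universe u

variable {S : Type u} [Group S] [Finite S] {p : ℕ} [hp : Fact p.Prime] {n : ℕ}

omit [Finite S] in
theorem map_fil_mem (α : MulAut S) {k : ℕ} {w : S} (hw : w ∈ fil S k) : α w ∈ fil S k := by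
  have h : α w ∈ ((⊤ : Subgroup S).lowerCentralSeries (k - 1)).map α.toMonoidHom := ⟨w, hw, rfl⟩
  rwa [Subgroup.map_lowerCentralSeries, map_top_of_surjective _ α.surjective] at h

omit [Finite S] in
theorem map_twoStep_mem (α : MulAut S) {k : ℕ} {g : S} (hg : g ∈ twoStep S k) : α g ∈ twoStep S k := by
  rw [mem_twoStep] at hg ⊢
  intro w hw
  have h := map_fil_mem α (hg _ (map_fil_mem α⁻¹ hw))
  rwa [map_commutatorElement, MulAut.apply_inv_self] at h

variable (hn : 3 ≤ n) (hG : Nat.card S = p ^ n) (hc : Group.nilpotencyClass S = n - 1)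

include hn hG hc

theorem exists_scalar (C : Coords S p n) (α : MulAut S) {k : ℕ} (hk : 2 ≤ k) :
    ∃ x : ZMod p, ∀ w ∈ fil S k, C.θ k (α w) = x * C.θ k w :=
  CfsgLib.MaxClassGood.scalar_of_additive hn hG hc hk (C.add k hk) (C.ker k hk) (fun w => C.θ k (α w))
    (fun a ha b hb => by rw [map_mul, C.add k hk _ (map_fil_mem α ha) _ (map_fil_mem α hb)])
    (fun a ha => C.zero hk (map_fil_mem α ha))

/-- The multiplier of a layer is read off one element. -/
theorem scalar_eq (C : Coords S p n) (α : MulAut S) {k : ℕ} (hk : 2 ≤ k) {x : ZMod p}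
    (hx : ∀ w ∈ fil S k, C.θ k (α w) = x * C.θ k w) {w : S} (hw : w ∈ fil S k) (hw' : w ∉ fil S (k + 1)) {j : ℕ}
    (h : (w ^ j)⁻¹ * α w ∈ fil S (k + 1)) : x = j := by
  have hθ : C.θ k w ≠ 0 := fun e => hw' ((C.ker k hk w hw).mp e)
  refine mul_right_cancel₀ hθ ?_
  have hpow : ∀ j : ℕ, C.θ k (w ^ j) = j * C.θ k w := by
    intro j
    induction j with
    | zero => rw [pow_zero, C.zero hk (one_mem _), Nat.cast_zero, zero_mul]
    | succ j ih => rw [pow_succ, C.add k hk _ (pow_mem hw j) w hw, ih, Nat.cast_succ, add_one_mul]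
  have h1 := C.add k hk _ (pow_mem hw j) _ (fil_antitone (show k ≤ k + 1 by omega) h)
  rw [mul_inv_cancel_left, C.zero hk h, add_zero, hpow, hx w hw] at h1
  exact h1

/-- Transport of a multiplier one layer down. -/
theorem scalar_succ (C : Coords S p n) (α : MulAut S) {k : ℕ} (hk : 2 ≤ k) (hkn : k < n) {x y m : ZMod p}
    (hx : ∀ w ∈ fil S k, C.θ k (α w) = x * C.θ k w)
    (hy : ∀ w ∈ fil S (k + 1), C.θ (k + 1) (α w) = y * C.θ (k + 1) w) {g : S} (hg : g ∉ twoStep S k)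
    (hm : C.β k (α g) = m * C.β k g) : y = x * m := by
  obtain ⟨w, hw, hw'⟩ := CfsgLib.MaxClassGood.exists_gen hn hG hc hkn hk
  have hθ : C.θ k w ≠ 0 := fun e => hw' ((C.ker k hk w hw).mp e)
  have hβ : C.β k g ≠ 0 := fun e => hg ((C.beta_eq_zero_iff hn hG hc hk hkn g).mp e)
  have h1 := hy _ (fil_commutator_mem hw (mem_top g) : ⁅w, g⁆ ∈ fil S (k + 1))
  rw [map_commutatorElement, C.comm k hk _ (map_fil_mem α hw), C.comm k hk w hw, hm, hx w hw] at h1
  refine mul_right_cancel₀ (mul_ne_zero hβ hθ) ?_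
  linear_combination -h1

theorem pow_mem_of_not_mem {K : Subgroup S} (hK : K.index = p) {g : S} (hg : g ∉ K) (x : S) :
    ∃ j : ℕ, (g ^ j)⁻¹ * x ∈ K := by
  haveI : K.Normal := by
    refine Subgroup.normal_of_index_eq_minFac_card ?_
    rw [hK, hG, Nat.Prime.pow_minFac hp.out (by omega)]
  have hq : Nat.card (S ⧸ K) = p := hK
  have hne : QuotientGroup.mk' K g ≠ 1 := fun e => hg ((QuotientGroup.eq_one_iff g).mp e)
  obtain ⟨j, hj⟩ := mem_powers_of_prime_card hq hne (g' := QuotientGroup.mk' K x)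
  refine ⟨j, ?_⟩
  rw [← QuotientGroup.eq_one_iff, QuotientGroup.mk_mul, QuotientGroup.mk_inv, QuotientGroup.mk_pow]
  exact inv_mul_eq_one.mpr hj

theorem beta_congr (C : Coords S p n) {k : ℕ} (hk : 2 ≤ k) (hkn : k < n) {g x : S} {j : ℕ}
    (h : (g ^ j)⁻¹ * x ∈ twoStep S k) : C.β k x = j * C.β k g := by
  have hpow : ∀ j : ℕ, C.β k (g ^ j) = j * C.β k g := by
    intro j
    induction j with
    | zero => rw [pow_zero, Nat.cast_zero, zero_mul, C.beta_eq_zero_iff hn hG hc hk hkn]; exact one_mem _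
    | succ j ih => rw [pow_succ, C.beta_mul hn hG hc hk hkn, ih, Nat.cast_succ, add_one_mul]
  have h1 := C.beta_mul hn hG hc hk hkn (g ^ j) ((g ^ j)⁻¹ * x)
  rw [mul_inv_cancel_left, (C.beta_eq_zero_iff hn hG hc hk hkn _).mpr h, add_zero, hpow] at h1
  exact h1

/-- The relations when all two-step centralizers coincide. -/
theorem weights_eq (h5 : 5 ≤ n) (heq : twoStep S (n - 2) = twoStep S 2) (α : MulAut S) {z₁ z₂ z₃ : S} {j₁ j₂ j₃ : ℕ}
    (hz₁ : z₁ ∈ fil S (n - 1)) (hz₁' : z₁ ∉ fil S n) (h₁ : (z₁ ^ j₁)⁻¹ * α z₁ ∈ fil S n)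
    (hz₂ : z₂ ∈ fil S (n - 2)) (hz₂' : z₂ ∉ fil S (n - 1)) (h₂ : (z₂ ^ j₂)⁻¹ * α z₂ ∈ fil S (n - 1))
    (hz₃ : z₃ ∈ fil S (n - 3)) (hz₃' : z₃ ∉ fil S (n - 2)) (h₃ : (z₃ ^ j₃)⁻¹ * α z₃ ∈ fil S (n - 2)) :
    ∃ a : ZMod p, (j₂ : ZMod p) = j₃ * a ∧ (j₁ : ZMod p) = j₂ * a := by
  obtain ⟨C⟩ := exists_coords hn hG hc
  have h2 := CfsgLib.MaxClassGood.twoStep_ne_top hn hG hc (k := 2) le_rfl (by omega)
  obtain ⟨g, hg⟩ : ∃ g, g ∉ twoStep S 2 := by
    by_contra h
    push Not at h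
    exact h2 ((eq_top_iff' _).mpr h)
  obtain ⟨a, ha⟩ := pow_mem_of_not_mem hn hG hc (CfsgLib.MaxClassGood.twoStep_index hn hG hc le_rfl (by omega)) hg (α g)
  obtain ⟨x₁, hx₁⟩ := exists_scalar hn hG hc C α (k := n - 1) (by omega)
  obtain ⟨x₂, hx₂⟩ := exists_scalar hn hG hc C α (k := n - 2) (by omega)
  obtain ⟨x₃, hx₃⟩ := exists_scalar hn hG hc C α (k := n - 3) (by omega)
  have e₁ : x₁ = j₁ := scalar_eq hn hG hc C α (by omega) hx₁ hz₁ (by rwa [show n - 1 + 1 = n by omega])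
    (by rwa [show n - 1 + 1 = n by omega])
  have e₂ : x₂ = j₂ := scalar_eq hn hG hc C α (by omega) hx₂ hz₂ (by rwa [show n - 2 + 1 = n - 1 by omega])
    (by rwa [show n - 2 + 1 = n - 1 by omega])
  have e₃ : x₃ = j₃ := scalar_eq hn hG hc C α (by omega) hx₃ hz₃ (by rwa [show n - 3 + 1 = n - 2 by omega])
    (by rwa [show n - 3 + 1 = n - 2 by omega])
  have hC3 : twoStep S (n - 3) = twoStep S 2 := twoStep_eq hn hG hc (by omega) (by omega)
  refine ⟨a, ?_, ?_⟩
  · rw [← e₂, ← e₃]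
    refine scalar_succ hn hG hc C α (k := n - 3) (by omega) (by omega) hx₃
      (by rwa [show n - 3 + 1 = n - 2 by omega]) (hC3.symm ▸ hg) ?_
    exact beta_congr hn hG hc C (by omega) (by omega) (hC3.symm ▸ ha)
  · rw [← e₁, ← e₂]
    refine scalar_succ hn hG hc C α (k := n - 2) (by omega) (by omega) hx₂
      (by rwa [show n - 2 + 1 = n - 1 by omega]) (heq.symm ▸ hg) ?_
    exact beta_congr hn hG hc C (by omega) (by omega) (heq.symm ▸ ha)

/-- The relations when the last two-step centralizer differs. -/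
theorem weights_ne (h6 : 6 ≤ n) (hne : twoStep S (n - 2) ≠ twoStep S 2) (α : MulAut S) {z₁ z₂ z₃ : S} {j₁ j₂ j₃ : ℕ}
    (hz₁ : z₁ ∈ fil S (n - 1)) (hz₁' : z₁ ∉ fil S n) (h₁ : (z₁ ^ j₁)⁻¹ * α z₁ ∈ fil S n)
    (hz₂ : z₂ ∈ fil S (n - 2)) (hz₂' : z₂ ∉ fil S (n - 1)) (h₂ : (z₂ ^ j₂)⁻¹ * α z₂ ∈ fil S (n - 1))
    (hz₃ : z₃ ∈ fil S (n - 3)) (hz₃' : z₃ ∉ fil S (n - 2)) (h₃ : (z₃ ^ j₃)⁻¹ * α z₃ ∈ fil S (n - 2)) :
    ∃ a b : ZMod p, (j₂ : ZMod p) = j₃ * a ∧ (j₁ : ZMod p) = j₂ * b ∧ (j₃ : ZMod p) = a ^ (n - 4) * b := by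
  have hpp : p.Prime := hp.out
  obtain ⟨C⟩ := exists_coords hn hG hc
  have hi1 := CfsgLib.MaxClassGood.twoStep_index hn hG hc (k := 2) le_rfl (by omega)
  have hi0 := CfsgLib.MaxClassGood.twoStep_index hn hG hc (k := n - 2) (by omega) (by omega)
  have hex : ∀ K K' : Subgroup S, K.index = p → K'.index = p → K ≠ K' → ∃ g ∈ K, g ∉ K' := by
    intro K K' h1 h2 hd
    by_contra h
    push Not at h
    refine hd (eq_of_le_of_card_ge h ?_)
    refine le_of_eq (Nat.eq_of_mul_eq_mul_right hpp.pos ?_)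
    have e1 := K.card_mul_index
    have e2 := K'.card_mul_index
    rw [h1] at e1
    rw [h2] at e2
    omega
  obtain ⟨e, he0, he1⟩ := hex _ _ hi0 hi1 hne
  obtain ⟨s, hs1, hs0⟩ := hex _ _ hi1 hi0 hne.symm
  have hinf : twoStep S (n - 2) ⊓ twoStep S 2 = fil S 2 := by
    refine (eq_of_le_of_card_ge (le_inf (CfsgLib.MaxClassGood.fil_le_twoStep _) (CfsgLib.MaxClassGood.fil_le_twoStep _))
      ?_).symm
    have h1 := (fil S 2).card_mul_index
    rw [fil_two_index hn hG hc] at h1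
    have hlt : twoStep S (n - 2) ⊓ twoStep S 2 < twoStep S 2 := lt_of_le_of_ne inf_le_right fun h => hs0 (h.ge hs1).1
    obtain ⟨j, hj, hje⟩ := (Nat.dvd_prime_pow hpp).mp (hG ▸ (twoStep S (n - 2) ⊓ twoStep S 2).index_dvd_card)
    have h2 := index_strictAnti hlt
    rw [hi1, hje] at h2
    nth_rw 1 [← pow_one p] at h2
    rw [Nat.pow_lt_pow_iff_right hpp.one_lt] at h2
    have h3 := (twoStep S (n - 2) ⊓ twoStep S 2).card_mul_index
    rw [hje] at h3
    by_contra h
    push Not at h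
    have h4 : Nat.card (fil S 2) * p ^ 2 < Nat.card ↥(twoStep S (n - 2) ⊓ twoStep S 2) * p ^ j :=
      lt_of_lt_of_le (Nat.mul_lt_mul_of_pos_right h (pow_pos hpp.pos 2))
        (Nat.mul_le_mul_left _ (Nat.pow_le_pow_right hpp.pos h2))
    omega
  obtain ⟨a, ha⟩ := pow_mem_of_not_mem hn hG hc hi1 he1 (α e)
  obtain ⟨b, hb⟩ := pow_mem_of_not_mem hn hG hc hi0 hs0 (α s)
  have haf : (e ^ a)⁻¹ * α e ∈ fil S 2 :=
    hinf ▸ mem_inf.mpr ⟨mul_mem (inv_mem (pow_mem he0 a)) (map_twoStep_mem α he0), ha⟩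
  have hbf : (s ^ b)⁻¹ * α s ∈ fil S 2 :=
    hinf ▸ mem_inf.mpr ⟨hb, mul_mem (inv_mem (pow_mem hs1 b)) (map_twoStep_mem α hs1)⟩
  have hx : ∀ k, ∃ x : ZMod p, 2 ≤ k → ∀ w ∈ fil S k, C.θ k (α w) = x * C.θ k w := fun k => by
    by_cases hk : 2 ≤ k
    · obtain ⟨x, hx⟩ := exists_scalar hn hG hc C α hk
      exact ⟨x, fun _ => hx⟩
    · exact ⟨0, fun h => absurd h hk⟩
  choose x hx using hx
  have e₁ : x (n - 1) = j₁ := scalar_eq hn hG hc C α (by omega) (hx _ (by omega)) hz₁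
    (by rwa [show n - 1 + 1 = n by omega]) (by rwa [show n - 1 + 1 = n by omega])
  have e₂ : x (n - 2) = j₂ := scalar_eq hn hG hc C α (by omega) (hx _ (by omega)) hz₂
    (by rwa [show n - 2 + 1 = n - 1 by omega]) (by rwa [show n - 2 + 1 = n - 1 by omega])
  have e₃ : x (n - 3) = j₃ := scalar_eq hn hG hc C α (by omega) (hx _ (by omega)) hz₃
    (by rwa [show n - 3 + 1 = n - 2 by omega]) (by rwa [show n - 3 + 1 = n - 2 by omega])
  have hlow : ∀ k, 2 ≤ k → k + 3 ≤ n → x (k + 1) = x k * a := by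
    intro k hk hkn
    have hC := twoStep_eq hn hG hc hk hkn
    exact scalar_succ hn hG hc C α hk (by omega) (hx k hk) (hx (k + 1) (by omega)) (hC ▸ he1)
      (beta_congr hn hG hc C hk (by omega) (hC ▸ ha))
  have hlast : x (n - 1) = x (n - 2) * b := by
    have h := scalar_succ hn hG hc C α (k := n - 2) (by omega) (by omega) (hx _ (by omega))
      (hx (n - 2 + 1) (by omega)) hs0 (beta_congr hn hG hc C (by omega) (by omega) hb)
    rwa [show n - 2 + 1 = n - 1 by omega] at h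
  -- the second layer
  have h2lay : x 2 = a * b := by
    have hgen : ∀ H : Subgroup S, e ∈ H → s ∈ H → H = ⊤ := fun H h1 h2 =>
      eq_top_of_mems hn hG hc (CfsgLib.MaxClassGood.fil_le_twoStep 2) hi1 he1 hs1
        (fun h => hs0 (CfsgLib.MaxClassGood.fil_le_twoStep _ h)) h1 h2
    have hes : C.θ 2 ⁅e, s⁆ ≠ 0 := by
      intro h0
      have h1 : ⁅e, s⁆ ∈ fil S 3 := (C.ker 2 le_rfl _ (fil_commutator_mem (i := 1) (j := 1) (mem_top e) (mem_top s))).mp h0
      obtain ⟨z, hz, hz'⟩ := CfsgLib.MaxClassGood.exists_gen hn hG hc (j := 2) (by omega) le_rfl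
      have hle : fil S 2 ≤ fil S 3 := by
        rw [CfsgLib.MaxClassRank.fil_succ (show 1 ≤ 1 from le_rfl), commutator_le]
        intro g _ g' _
        let q := QuotientGroup.mk' (fil S 3)
        have hc2 : q e * q s = q s * q e := CfsgLib.MaxClassRank.mk_comm_iff.mpr h1
        have hA : ∀ g, q g * q e = q e * q g := by
          intro g
          have : g ∈ (centralizer ({q e} : Set (S ⧸ fil S 3))).comap q := by
            rw [hgen _ (mem_comap.mpr (mem_centralizer_singleton_iff.mpr rfl))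
              (mem_comap.mpr (mem_centralizer_singleton_iff.mpr hc2.symm))]
            trivial
          exact mem_centralizer_singleton_iff.mp (mem_comap.mp this)
        have hB : g ∈ (centralizer ({q g'} : Set (S ⧸ fil S 3))).comap q := by
          have hB' : ∀ g, q g * q s = q s * q g := by
            intro g
            have : g ∈ (centralizer ({q s} : Set (S ⧸ fil S 3))).comap q := by
              rw [hgen _ (mem_comap.mpr (mem_centralizer_singleton_iff.mpr hc2))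
                (mem_comap.mpr (mem_centralizer_singleton_iff.mpr rfl))]
              trivial
            exact mem_centralizer_singleton_iff.mp (mem_comap.mp this)
          rw [hgen _ (mem_comap.mpr (mem_centralizer_singleton_iff.mpr (hA g').symm))
            (mem_comap.mpr (mem_centralizer_singleton_iff.mpr (hB' g').symm))]
          trivial
        exact CfsgLib.MaxClassRank.mk_comm_iff.mp (mem_centralizer_singleton_iff.mp (mem_comap.mp hB))
      exact hz' (hle hz)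
    have hpl : ∀ (u v : S) (i : ℕ), C.θ 2 ⁅u ^ i, v⁆ = i * C.θ 2 ⁅u, v⁆ := by
      intro u v i
      induction i with
      | zero => rw [pow_zero, commutatorElement_one_left, C.zero le_rfl (one_mem _), Nat.cast_zero, zero_mul]
      | succ i ih =>
        have h := C.mul_left (i := 1) (j := 1) le_rfl le_rfl (mem_top (u ^ i)) (mem_top u) (mem_top v)
        rw [pow_succ, h, ih, Nat.cast_succ, add_one_mul]
    have hcongr : ∀ (u u' v : S) (i : ℕ), (u ^ i)⁻¹ * u' ∈ fil S 2 → C.θ 2 ⁅u', v⁆ = i * C.θ 2 ⁅u, v⁆ := by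
      intro u u' v i h
      have h' := C.mul_left (i := 1) (j := 1) le_rfl le_rfl (mem_top (u ^ i)) (mem_top ((u ^ i)⁻¹ * u')) (mem_top v)
      rw [mul_inv_cancel_left, hpl, C.deep_left (i := 1) (j := 1) le_rfl le_rfl h (mem_top v), add_zero] at h'
      exact h'
    have hR : C.θ 2 ⁅α e, α s⁆ = a * b * C.θ 2 ⁅e, s⁆ := by
      rw [hcongr e (α e) _ a haf]
      have h1 := C.swap (i := 1) (j := 1) le_rfl le_rfl (mem_top e) (mem_top (α s))
      have h2 := C.swap (i := 1) (j := 1) le_rfl le_rfl (mem_top e) (mem_top s)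
      rw [hcongr s (α s) _ b hbf, h2] at h1
      linear_combination (a : ZMod p) * h1
    have h := hx 2 le_rfl _ (fil_commutator_mem (i := 1) (j := 1) (mem_top e) (mem_top s) : ⁅e, s⁆ ∈ fil S 2)
    rw [map_commutatorElement, hR] at h
    exact mul_right_cancel₀ hes h.symm
  refine ⟨a, b, ?_, ?_, ?_⟩
  · rw [← e₂, ← e₃, show n - 2 = n - 3 + 1 by omega]
    exact hlow (n - 3) (by omega) (by omega)
  · rw [← e₁, ← e₂, hlast]
  · rw [← e₃]
    have : ∀ i, i + 5 ≤ n → x (i + 2) = (a : ZMod p) ^ (i + 1) * b := by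
      intro i
      induction i with
      | zero => intro _; rw [h2lay, zero_add, pow_one]
      | succ i ih =>
        intro hi
        rw [show i + 1 + 2 = i + 2 + 1 by omega, hlow (i + 2) (by omega) (by omega), ih (by omega), pow_succ _ (i + 1)]
        ring
    rw [show n - 3 = n - 5 + 2 by omega, this (n - 5) (by omega), show n - 5 + 1 = n - 4 by omega]

end CfsgLib.MaxClassDegree
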